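import Cfsg.Agent.H883.C7.GIface

/-!
# Skew operators of the tensor power (task 2084, helper734, plan of helper883)
-/

set_option autoImplicit false
set_option linter.unusedSectionVars false

namespace Cfsg.Agent.H734.C7

open QuadraticMap hiding proj
open Cfsg.Agent.LieClassical.OrthCore Cfsg.Agent.LieClassical.OrthTrans
open Cfsg.Agent.H882.Ten Cfsg.Agent.LieClassical.OrthFinite
open Cfsg.Agent.H883.C7

variable {F : Type*} [Field F] {κ : Type*} [Fintype κ] [DecidableEq κ] {ι : Type*} [Fintype ι] [DecidableEq ι]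

/-! ### adjoints -/

theorem exists_adj {q : QuadraticForm F (κ → F)} (hq : Nondeg q) (f : Module.End F (κ → F)) :
    ∃ f' : Module.End F (κ → F), ∀ u v, polar q (f u) v = polar q u (f' v) := by
  obtain ⟨d, hd⟩ := exists_dual hq
  refine ⟨∑ b, (polarBilin q (f (Pi.single b 1))).smulRight (d b), fun u v => ?_⟩
  rw [LinearMap.sum_apply]
  have h1 : polar q u (∑ b, (polarBilin q (f (Pi.single b 1))).smulRight (d b) v) =
      ∑ b, polar q (f (Pi.single b 1)) v * u b := by
    rw [← polarBilin_apply_apply, map_sum]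
    refine Finset.sum_congr rfl fun b _ => ?_
    rw [LinearMap.smulRight_apply, map_smul, polarBilin_apply_apply, polarBilin_apply_apply, hd, smul_eq_mul]
  rw [h1]
  have h2 : u = ∑ b, u b • (Pi.single b (1 : F) : κ → F) := by
    conv_lhs => rw [← Pi.basisFun F κ |>.sum_repr u]
    exact Finset.sum_congr rfl fun b _ => by rw [Pi.basisFun_apply, Pi.basisFun_repr]
  conv_lhs => rw [h2, map_sum]
  rw [← polarBilin_apply_apply, map_sum, LinearMap.sum_apply]
  refine Finset.sum_congr rfl fun b _ => ?_
  rw [map_smul, map_smul, LinearMap.smul_apply, polarBilin_apply_apply, smul_eq_mul, mul_comm]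

theorem adj_unique {V : Type*} [AddCommGroup V] [Module F V] {Q : QuadraticForm F V} (hQ : Nondeg Q)
    {T T₁ T₂ : Module.End F V} (h1 : ∀ u v, polar Q (T u) v = polar Q u (T₁ v))
    (h2 : ∀ u v, polar Q (T u) v = polar Q u (T₂ v)) : T₁ = T₂ := by
  refine LinearMap.ext fun v => ?_
  rw [← sub_eq_zero]
  refine hQ _ fun u => ?_
  rw [polar_comm, polar_sub_right, ← h1, ← h2, sub_self]

/-- matrix units -/
noncomputable def mu (x y : κ) : Module.End F (κ → F) := (LinearMap.proj y).smulRight (Pi.single x (1 : F))

theorem mu_apply (x y : κ) (u : κ → F) : mu x y u = u y • (Pi.single x (1 : F) : κ → F) := rfl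

theorem op_mu (a b : ι → κ) (v : (ι → κ) → F) :
    op (fun i => mu (F := F) (a i) (b i)) v = v b • (Pi.single a (1 : F) : (ι → κ) → F) := by
  have : op (fun i => mu (F := F) (a i) (b i)) = (LinearMap.proj b).smulRight (Pi.single a (1 : F)) := by
    refine tp_ext fun x => ?_
    rw [op_tp]
    simp only [mu_apply]
    rw [tp_smul_all, LinearMap.smulRight_apply, LinearMap.proj_apply, tp_apply, single_eq_tp]
  rw [this]
  rfl

theorem mem_span_op (T : Module.End F ((ι → κ) → F)) :
    T ∈ Submodule.span F (Set.range (op : (ι → Module.End F (κ → F)) → _)) := by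
  have h : T = ∑ b : ι → κ, ∑ a : ι → κ, (T (Pi.single b 1) a) • op (fun i => mu (F := F) (a i) (b i)) := by
    refine (Pi.basisFun F (ι → κ)).ext fun b => ?_
    rw [Pi.basisFun_apply]
    simp only [LinearMap.sum_apply, LinearMap.smul_apply, op_mu]
    rw [Finset.sum_eq_single b]
    · simp only [Pi.single_eq_same, one_smul]
      conv_lhs => rw [← Pi.basisFun F (ι → κ) |>.sum_repr (T (Pi.single b 1))]
      exact Finset.sum_congr rfl fun a _ => by rw [Pi.basisFun_apply, Pi.basisFun_repr]
    · intro c _ hc
      refine Finset.sum_eq_zero fun a _ => ?_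
      rw [Pi.single_eq_of_ne hc, zero_smul, smul_zero]
    · exact fun h => absurd (Finset.mem_univ _) h
  rw [h]
  exact Submodule.sum_mem _ fun b _ => Submodule.sum_mem _ fun a _ =>
    Submodule.smul_mem _ _ (Submodule.subset_span ⟨_, rfl⟩)

theorem sub_adj_skew {V : Type*} [AddCommGroup V] [Module F V] {Q : QuadraticForm F V}
    {f f' : Module.End F V} (h : ∀ u v, polar Q (f u) v = polar Q u (f' v)) : Skew Q (f - f') := by
  intro u v
  have h1 : polar Q (f' u) v = polar Q u (f v) := by rw [polar_comm, ← h, polar_comm]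
  rw [LinearMap.sub_apply, LinearMap.sub_apply, polar_sub_left, polar_sub_right, h, h1]
  ring

theorem op_update_mul (X : ι → Module.End F (κ → F)) (a : ι) (g : Module.End F (κ → F)) :
    op (Function.update X a g) = op (Function.update X a 1) * sl a g := by
  rw [sl, ← op_mul]
  congr 1
  funext j
  by_cases h : j = a
  · subst h; rw [Function.update_self, Function.update_self, Function.update_self, one_mul]
  · rw [Function.update_of_ne h, Function.update_of_ne h, Function.update_of_ne h, mul_one]

theorem op_update_comm (X : ι → Module.End F (κ → F)) (a : ι) (f : Module.End F (κ → F)) :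
    op (Function.update X a 1) * sl a f = sl a f * op (Function.update X a 1) := by
  rw [sl, ← op_mul, ← op_mul]
  congr 1
  funext j
  by_cases h : j = a
  · subst h; simp only [Function.update_self, one_mul, mul_one]
  · simp only [Function.update_of_ne h, mul_one, one_mul]

theorem op_sub_mem {q : QuadraticForm F (κ → F)} {c c' : ι → Module.End F (κ → F)}
    (h : ∀ i u v, polar q (c i u) v = polar q u (c' i v)) : op c - op c' ∈ ⨆ l, Kl q l := by
  have key : ∀ s : Finset ι, op c - op (s.piecewise c' c) ∈ ⨆ l, Kl q l := by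
    intro s
    induction s using Finset.induction_on with
    | empty => rw [Finset.piecewise_empty, sub_self]; exact Submodule.zero_mem _
    | insert a s ha ih =>
      have h1 : s.piecewise c' c a = c a := Finset.piecewise_eq_of_notMem _ _ _ ha
      have h2 : op (s.piecewise c' c) - op ((insert a s).piecewise c' c) =
          op (Function.update (s.piecewise c' c) a 1) * sl a (c a - c' a) := by
        rw [Finset.piecewise_insert, ← op_update_mul]
        have h3 := op_update_add (s.piecewise c' c) a (c a - c' a) (c' a)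
        rw [sub_add_cancel] at h3
        rw [← sub_eq_iff_eq_add.2 h3]
        congr 2
        conv_lhs => rw [← Function.update_eq_self a (s.piecewise c' c), h1]
      have h3 : op c - op ((insert a s).piecewise c' c) =
          (op c - op (s.piecewise c' c)) + (op (s.piecewise c' c) - op ((insert a s).piecewise c' c)) := by
        abel
      rw [h3, h2]
      refine Submodule.add_mem _ ih (Submodule.mem_iSup_of_mem a (Submodule.subset_span ?_))
      exact ⟨_, _, op_update_comm _ _, sub_adj_skew (h a), rfl⟩
  have := key Finset.univ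
  rwa [Finset.piecewise_univ] at this

theorem sub_adj_mem {q : QuadraticForm F (κ → F)} (h2 : (2 : F) ≠ 0) (hq : Nondeg q)
    (T : Module.End F ((ι → κ) → F)) : ∀ T' : Module.End F ((ι → κ) → F),
    (∀ u v, polar (QT q ι) (T u) v = polar (QT q ι) u (T' v)) → T - T' ∈ ⨆ l, Kl q l := by
  have hQ : Nondeg (QT q ι) := nondeg_QT h2 hq
  induction mem_span_op T using Submodule.span_induction with
  | mem T hT =>
    obtain ⟨c, rfl⟩ := hT
    intro T' hT'
    choose c' hc' using fun i => exists_adj hq (c i)
    have h1 : ∀ u v, polar (QT q ι) (op c u) v = polar (QT q ι) u (op c' v) := by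
      have h3 : (polarBilin (QT q ι)).compl₁₂ (op c) LinearMap.id =
          (polarBilin (QT q ι)).compl₁₂ LinearMap.id (op c') := by
        refine tp_ext2 fun x y => ?_
        rw [LinearMap.compl₁₂_apply, LinearMap.compl₁₂_apply, LinearMap.id_apply, LinearMap.id_apply,
          polarBilin_apply_apply, polarBilin_apply_apply, op_tp, op_tp, polar_tp h2, polar_tp h2]
        exact Finset.prod_congr rfl fun i _ => hc' i _ _
      exact fun u v => LinearMap.congr_fun (LinearMap.congr_fun h3 u) v
    rw [adj_unique hQ hT' h1]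
    exact op_sub_mem hc'
  | zero =>
    intro T' hT'
    have : T' = 0 := adj_unique hQ hT' fun u v => by
      rw [LinearMap.zero_apply, LinearMap.zero_apply, polar_zero_left, polar_zero_right]
    rw [this, sub_self]
    exact Submodule.zero_mem _
  | add S T _ _ ihS ihT =>
    intro T' hT'
    obtain ⟨S₁, hS₁⟩ := exists_adj hQ S
    obtain ⟨T₁, hT₁⟩ := exists_adj hQ T
    have : T' = S₁ + T₁ := adj_unique hQ hT' fun u v => by
      rw [LinearMap.add_apply, LinearMap.add_apply, polar_add_left, polar_add_right, hS₁, hT₁]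
    rw [this, add_sub_add_comm]
    exact Submodule.add_mem _ (ihS _ hS₁) (ihT _ hT₁)
  | smul c T _ ih =>
    intro T' hT'
    obtain ⟨T₁, hT₁⟩ := exists_adj hQ T
    have : T' = c • T₁ := adj_unique hQ hT' fun u v => by
      rw [LinearMap.smul_apply, LinearMap.smul_apply, polar_smul_left, polar_smul_right, hT₁]
    rw [this, ← smul_sub]
    exact Submodule.smul_mem _ _ (ih _ hT₁)

/-- **G6**: skew operators of the tensor power. -/
theorem skew_mem {q : QuadraticForm F (κ → F)} (h2 : (2 : F) ≠ 0) (hq : Nondeg q)
    {z : Module.End F ((ι → κ) → F)} (hz : Skew (QT q ι) z) : z ∈ ⨆ l, Kl q l := by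
  have h := sub_adj_mem h2 hq z (-z) fun u v => by
    rw [LinearMap.neg_apply, polar_neg_right, hz u v]
  rw [sub_neg_eq_add, ← two_smul F] at h
  exact (Submodule.smul_mem_iff _ h2).1 h

theorem cj_skew {q : QuadraticForm F (κ → F)} {g : ((ι → κ) → F) ≃ₗ[F] ((ι → κ) → F)} (hg : g ∈ O (QT q ι))
    {z : Module.End F ((ι → κ) → F)} (hz : Skew (QT q ι) z) : Skew (QT q ι) (cj g z) := by
  intro u v
  have hg' := (O (QT q ι)).inv_mem hg
  have h1 : ∀ x, g (g⁻¹ x) = x := LinearEquiv.apply_symm_apply g
  have h2 : ∀ x, g⁻¹ (g x) = x := LinearEquiv.symm_apply_apply g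
  rw [cj_apply, cj_apply, ← polar_map hg' (g (z (g⁻¹ u))) v, h2, hz, ← polar_map hg (g⁻¹ u), h1]

/-! ### spanning the skew operators of `κ → F` -/

theorem nn_swap (q : QuadraticForm F (κ → F)) (a b : κ → F) : nn q a b = - nn q b a := by
  refine LinearMap.ext fun v => ?_
  rw [LinearMap.neg_apply, nn_apply, nn_apply]
  abel

theorem nn_add' (q : QuadraticForm F (κ → F)) (u x y : κ → F) : nn q u (x + y) = nn q u x + nn q u y := by
  refine LinearMap.ext fun v => ?_
  simp only [LinearMap.add_apply, nn_apply, polar_add_left]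
  module

theorem nn_smul' (q : QuadraticForm F (κ → F)) (u x : κ → F) (c : F) : nn q u (c • x) = c • nn q u x := by
  refine LinearMap.ext fun v => ?_
  simp only [LinearMap.smul_apply, nn_apply, polar_smul_left, smul_eq_mul]
  module

theorem add_nn (q : QuadraticForm F (κ → F)) (u x y : κ → F) : nn q (x + y) u = nn q x u + nn q y u := by
  rw [nn_swap, nn_add', nn_swap q u x, nn_swap q u y]
  abel

theorem smul_nn (q : QuadraticForm F (κ → F)) (u x : κ → F) (c : F) : nn q (c • x) u = c • nn q x u := by
  rw [nn_swap, nn_smul', nn_swap q u x, smul_neg, neg_neg]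

theorem nn_self (q : QuadraticForm F (κ → F)) (u : κ → F) : nn q u u = 0 := by
  refine LinearMap.ext fun v => ?_
  rw [nn_apply, sub_self, LinearMap.zero_apply]

theorem two_smul_skew {q : QuadraticForm F (κ → F)} (hq : Nondeg q) {X : Module.End F (κ → F)} (hX : Skew q X)
    {d : κ → (κ → F)} (hd : ∀ b (x : κ → F), polar q x (d b) = x b) :
    (2 : F) • X = ∑ b, nn q (d b) (X (Pi.single b 1)) := by
  refine LinearMap.ext fun v => ?_
  rw [LinearMap.sum_apply]
  simp only [nn_apply]
  rw [Finset.sum_sub_distrib, LinearMap.smul_apply, two_smul]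
  have hv : ∀ v : κ → F, v = ∑ b, v b • (Pi.single b (1 : F) : κ → F) := by
    intro v
    conv_lhs => rw [← Pi.basisFun F κ |>.sum_repr v]
    exact Finset.sum_congr rfl fun b _ => by rw [Pi.basisFun_apply, Pi.basisFun_repr]
  have h1 : ∑ b, polar q (d b) v • X (Pi.single b 1) = X v := by
    conv_rhs => rw [hv v, map_sum]
    refine Finset.sum_congr rfl fun b _ => ?_
    rw [map_smul, polar_comm, hd]
  have h2 : ∀ y, ∑ b, polar q (Pi.single b 1) y • d b = y := by
    intro y
    rw [← sub_eq_zero]
    refine hq _ fun x => ?_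
    rw [polar_comm, polar_sub_right, sub_eq_zero]
    have h3 : polar q x (∑ b, polar q (Pi.single b 1) y • d b) = ∑ b, polar q (Pi.single b 1) y * x b := by
      rw [← polarBilin_apply_apply, map_sum]
      refine Finset.sum_congr rfl fun b _ => ?_
      rw [map_smul, polarBilin_apply_apply, hd, smul_eq_mul]
    rw [h3]
    conv_rhs => rw [hv x, ← polarBilin_apply_apply, map_sum, LinearMap.sum_apply]
    refine Finset.sum_congr rfl fun b _ => ?_
    rw [map_smul, LinearMap.smul_apply, polarBilin_apply_apply, smul_eq_mul, mul_comm]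
  have h3 : ∑ b, polar q (X (Pi.single b 1)) v • d b = - X v := by
    rw [← h2 (- X v)]
    refine Finset.sum_congr rfl fun b _ => ?_
    rw [hX, polar_neg_right]
  rw [h1, h3, sub_neg_eq_add]

theorem skew_span {q : QuadraticForm F (κ → F)} (H : Hyp7 q) [Finite F] {X : Module.End F (κ → F)}
    (hX : Skew q X) : X ∈ Submodule.span F
      {f : Module.End F (κ → F) | ∃ u x, u ≠ 0 ∧ q u = 0 ∧ polar q u x = 0 ∧ f = nn q u x} := by
  set S := Submodule.span F
      {f : Module.End F (κ → F) | ∃ u x, u ≠ 0 ∧ q u = 0 ∧ polar q u x = 0 ∧ f = nn q u x} with hS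
  have hfr : 3 ≤ Module.finrank F (κ → F) := by rw [Module.finrank_fintype_fun_eq_card]; exact H.three
  obtain ⟨u, -, hu0, hu⟩ := exists_sing_mem (Q := q) (⊤ : Submodule F (κ → F)) (by rw [finrank_top]; exact hfr)
  obtain ⟨u', hyp⟩ := LieClassical.OrthTrans.exists_hyp H.nd hu hu0
  obtain ⟨y0, hy1, hy2, hy3⟩ := H882.Ten.exists_nonsing_perp H.nd hfr hyp
  have hu'0 : u' ≠ 0 := by
    rintro rfl
    have := hyp.pair
    rw [polar_zero_right] at this
    exact zero_ne_one this
  have hbase : ∀ w x, w ≠ 0 → q w = 0 → polar q w x = 0 → nn q w x ∈ S := fun w x h1 h2 h3 =>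
    Submodule.subset_span ⟨w, x, h1, h2, h3, rfl⟩
  have hpair' : polar q u' u = 1 := by rw [polar_comm]; exact hyp.pair
  -- the main element
  have hmain : ∀ y y', polar q u y = 0 → polar q u' y = 0 → polar q u y' = 0 → polar q u' y' = 0 →
      nn q y y' - polar q y y' • nn q u' u ∈ S := by
    intro y y' h1 h2 h3 h4
    have hyu : polar q y u = 0 := by rw [polar_comm]; exact h1
    have hyu' : polar q y u' = 0 := by rw [polar_comm]; exact h2
    have hv : q (u' + y + (-q y) • u) = 0 := by
      rw [Q_add, Q_add, QuadraticMap.map_smul, hyp.right, hyp.left, polar_add_left, polar_smul_right,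
        polar_smul_right, h2, hyu, hpair']
      simp only [smul_eq_mul]
      ring
    have hv0 : u' + y + (-q y) • u ≠ 0 := by
      intro h
      have h5 : polar q u (u' + y + (-q y) • u) = 0 := by rw [h, polar_zero_right]
      rw [polar_add_right, polar_add_right, polar_smul_right, hyp.pair, h1, polar_self_of_sing hu] at h5
      simp at h5
    have hp : polar q (u' + y + (-q y) • u) (y' + (-polar q y y') • u) = 0 := by
      simp only [polar_add_left, polar_add_right, polar_smul_left, polar_smul_right, hpair', h3, h4, hyu,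
        polar_self_of_sing hu, smul_eq_mul]
      ring
    have h6 := hbase _ _ hv0 hv hp
    have h7 : nn q (u' + y + (-q y) • u) (y' + (-polar q y y') • u) =
        nn q u' y' + (-polar q y y') • nn q u' u + nn q y y' + (polar q y y') • nn q u y +
          (-q y) • nn q u y' := by
      simp only [add_nn, nn_add', smul_nn, nn_smul', nn_self]
      rw [nn_swap q y u]
      module
    rw [h7] at h6
    have h8 := S.sub_mem (S.sub_mem (S.sub_mem h6 (hbase u' y' hu'0 hyp.right h4))
      (S.smul_mem (polar q y y') (hbase u y hu0 hu h1))) (S.smul_mem (-q y) (hbase u y' hu0 hu h3))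
    have h9 : nn q y y' - polar q y y' • nn q u' u = nn q u' y' + (-polar q y y') • nn q u' u + nn q y y' + (polar q y y') • nn q u y +
          (-q y) • nn q u y' - nn q u' y' - (polar q y y') • nn q u y - (-q y) • nn q u y' := by
      module
    rw [h9]
    exact h8
  have huu' : nn q u' u ∈ S := by
    have h1 := hmain y0 y0 hy1 hy2 hy1 hy2
    rw [nn_self, polar_self', zero_sub] at h1
    exact (S.smul_mem_iff (mul_ne_zero H.two hy3)).1 (S.neg_mem_iff.1 h1)
  have hyy' : ∀ y y', polar q u y = 0 → polar q u' y = 0 → polar q u y' = 0 → polar q u' y' = 0 →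
      nn q y y' ∈ S := by
    intro y y' h1 h2 h3 h4
    have h5 := S.add_mem (hmain y y' h1 h2 h3 h4) (S.smul_mem (polar q y y') huu')
    rwa [sub_add_cancel] at h5
  -- decompose
  have hdec : ∀ a : κ → F, ∃ y, polar q u y = 0 ∧ polar q u' y = 0 ∧
      a = polar q u' a • u + polar q u a • u' + y := by
    intro a
    refine ⟨a - polar q u' a • u - polar q u a • u', ?_, ?_, by abel⟩
    · simp only [polar_sub_right, polar_smul_right, hyp.pair, polar_self_of_sing hu, smul_eq_mul]
      ring
    · simp only [polar_sub_right, polar_smul_right, hpair', polar_self_of_sing hyp.right, smul_eq_mul]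
      ring
  have hall : ∀ a b, nn q a b ∈ S := by
    intro a b
    obtain ⟨y, h1, h2, ha⟩ := hdec a
    obtain ⟨y', h3, h4, hb⟩ := hdec b
    have e1 : nn q u u' ∈ S := by rw [nn_swap]; exact S.neg_mem huu'
    have e2 := hbase u y' hu0 hu h3
    have e3 := hbase u' y' hu'0 hyp.right h4
    have e4 : nn q y u ∈ S := by rw [nn_swap]; exact S.neg_mem (hbase u y hu0 hu h1)
    have e5 : nn q y u' ∈ S := by rw [nn_swap]; exact S.neg_mem (hbase u' y hu'0 hyp.right h2)
    have e6 := hyy' y y' h1 h2 h3 h4
    have hr : ∀ c, nn q c u ∈ S → nn q c u' ∈ S → nn q c y' ∈ S → nn q c b ∈ S := by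
      intro c k1 k2 k3
      rw [hb, nn_add', nn_add', nn_smul', nn_smul']
      exact S.add_mem (S.add_mem (S.smul_mem _ k1) (S.smul_mem _ k2)) k3
    rw [ha, add_nn, add_nn, smul_nn, smul_nn]
    refine S.add_mem (S.add_mem (S.smul_mem _ (hr _ ?_ e1 e2)) (S.smul_mem _ (hr _ huu' ?_ e3))) (hr _ e4 e5 e6)
    · rw [nn_self]; exact S.zero_mem
    · rw [nn_self]; exact S.zero_mem
  obtain ⟨d, hd⟩ := exists_dual H.nd
  refine (S.smul_mem_iff H.two).1 ?_
  rw [two_smul_skew H.nd hX hd]
  exact S.sum_mem fun b _ => hall _ _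

end Cfsg.Agent.H734.C7
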